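import Mathlib

set_option autoImplicit false
universe u v

open IsLocalRing MvPowerSeries

set_option maxHeartbeats 400000

/-!
# The thickness of a node is determined by the completed local ring
-/

namespace Groth.Agent.H98Node

variable {C : Type u} [CommRing C]

/-- The linear coefficient in the variable `i`. -/
noncomputable abbrev lin (i : Fin 2) : MvPowerSeries (Fin 2) C →ₗ[C] C := MvPowerSeries.coeff (Finsupp.single i 1)

lemma lin_mul (i : Fin 2) (f g : MvPowerSeries (Fin 2) C) :
    lin i (f * g) = constantCoeff f * lin i g + lin i f * constantCoeff g := by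
  classical
  rw [lin, MvPowerSeries.coeff_mul, Finsupp.antidiagonal_single, Finset.sum_map]
  rw [show Finset.HasAntidiagonal.antidiagonal (1 : ℕ) = {(0, 1), (1, 0)} from rfl]
  simp [coeff_zero_eq_constantCoeff_apply]

lemma lin_C (i : Fin 2) (c : C) : lin i (MvPowerSeries.C (σ := Fin 2) c) = 0 := by
  classical
  simp [lin, MvPowerSeries.coeff_C]

lemma lin_X (i j : Fin 2) : lin i (MvPowerSeries.X j : MvPowerSeries (Fin 2) C) = if i = j then 1 else 0 := by
  classical
  simp [lin, MvPowerSeries.coeff_X, Finsupp.single_left_inj]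

lemma exists_decomp (f : MvPowerSeries (Fin 2) C) :
    ∃ g h, f = MvPowerSeries.C (constantCoeff f) + MvPowerSeries.X 0 * g + MvPowerSeries.X 1 * h := by
  classical
  let f₁ : MvPowerSeries (Fin 2) C := fun n => if n 0 = 0 then MvPowerSeries.coeff n f else 0
  have hf₁ : ∀ n, MvPowerSeries.coeff n f₁ = if n 0 = 0 then MvPowerSeries.coeff n f else 0 := fun n => rfl
  obtain ⟨g, hg⟩ : MvPowerSeries.X 0 ∣ f - f₁ := by
    rw [MvPowerSeries.X_dvd_iff]
    intro n hn
    rw [map_sub, hf₁, if_pos hn, sub_self]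
  obtain ⟨h, hh⟩ : MvPowerSeries.X 1 ∣ f₁ - MvPowerSeries.C (constantCoeff f) := by
    rw [MvPowerSeries.X_dvd_iff]
    intro n hn
    rw [map_sub, hf₁, MvPowerSeries.coeff_C]
    by_cases h0 : n 0 = 0
    · have : n = 0 := by ext j; fin_cases j <;> simpa
      subst this
      simp [coeff_zero_eq_constantCoeff_apply]
    · have : n ≠ 0 := fun e => h0 (by simp [e])
      simp [h0, this]
  exact ⟨g, h, by rw [← hg, ← hh]; ring⟩

variable [IsLocalRing C] {R : Type v} [CommRing R] [IsLocalRing R]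

/-- An isomorphism of node rings over the base relates the thicknesses. -/
theorem dvd_of_hom (ι : R →+* C) (hι : maximalIdeal C ≤ (maximalIdeal R).map ι)
    (hιm : (maximalIdeal R).map ι ≤ maximalIdeal C) (a : R) {b : C} (hb : b ∈ maximalIdeal C)
    {J : Ideal (MvPowerSeries (Fin 2) C)}
    (hJ : J = Ideal.span {(MvPowerSeries.X 0 * MvPowerSeries.X 1 - MvPowerSeries.C b : MvPowerSeries (Fin 2) C)})
    (ψ : MvPowerSeries (Fin 2) C →+* MvPowerSeries (Fin 2) C ⧸ J)
    (hψ : Function.Surjective ψ)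
    (hcomm : ∀ r, ψ (MvPowerSeries.C (ι r)) = Ideal.Quotient.mk _ (MvPowerSeries.C (ι r)))
    (hker : ψ (MvPowerSeries.X 0 * MvPowerSeries.X 1 - MvPowerSeries.C (ι a)) = 0) :
    b ∣ ι a := by
  let ρ := IsLocalRing.residue C
  -- the series vanishing to second order on the closed fibre
  let K : Ideal (MvPowerSeries (Fin 2) C) :=
    { carrier := {z | ρ (constantCoeff z) = 0 ∧ ∀ i, ρ (lin i z) = 0}
      zero_mem' := by simp
      add_mem' := fun {z w} hz hw => ⟨by simp [hz.1, hw.1], fun i => by simp [hz.2 i, hw.2 i]⟩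
      smul_mem' := fun g z hz => by
        refine ⟨by simp [hz.1], fun i => ?_⟩
        rw [smul_eq_mul, lin_mul]
        simp [hz.1, hz.2 i] }
  have hbK : MvPowerSeries.X 0 * MvPowerSeries.X 1 - MvPowerSeries.C b ∈ K := by
    have hb0 : ρ b = 0 := (residue_eq_zero_iff _).mpr hb
    exact ⟨by simp [hb0], fun i => by rw [map_sub, lin_mul, lin_C]; simp⟩
  have hJne : J ≠ ⊤ := fun h => by
    have hJK : J ≤ K := hJ ▸ (Ideal.span_singleton_le_iff_mem _).mpr hbK
    have h1 : (1 : MvPowerSeries (Fin 2) C) ∈ K := hJK (by rw [h]; trivial)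
    have := h1.1
    simp at this
  have hnontriv : Nontrivial (MvPowerSeries (Fin 2) C ⧸ J) := Ideal.Quotient.nontrivial_iff.mpr hJne
  -- nonunits map to nonunits
  have hnu : ∀ w, ¬ IsUnit w → ¬ IsUnit (ψ w) := by
    rintro w hw ⟨z, hz⟩
    obtain ⟨t, ht⟩ := hψ ↑z⁻¹
    have : w * t - 1 ∈ RingHom.ker ψ := by
      rw [RingHom.mem_ker, map_sub, map_mul, ← hz, ht, Units.mul_inv, map_one, sub_self]
    have hk : RingHom.ker ψ ≤ maximalIdeal _ := le_maximalIdeal (RingHom.ker_ne_top ψ)
    have h1 : w * t ∈ maximalIdeal _ := Ideal.mul_mem_right _ _ ((mem_maximalIdeal _).mpr hw)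
    have h2 := Ideal.sub_mem _ h1 (hk this)
    rw [sub_sub_cancel] at h2
    exact (maximalIdeal.isMaximal _).ne_top ((Ideal.eq_top_iff_one _).mpr h2)
  obtain ⟨u, hu⟩ := Ideal.Quotient.mk_surjective (ψ (MvPowerSeries.X 0))
  obtain ⟨v, hv⟩ := Ideal.Quotient.mk_surjective (ψ (MvPowerSeries.X 1))
  have hconst : ∀ (i : Fin 2) (w), Ideal.Quotient.mk J w = ψ (MvPowerSeries.X i) → constantCoeff w ∈ maximalIdeal C := by
    intro i w hw
    by_contra h
    have h0 : ¬ IsUnit (MvPowerSeries.X i : MvPowerSeries (Fin 2) C) := by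
      rw [MvPowerSeries.isUnit_iff_constantCoeff]; simp
    apply hnu _ h0
    rw [← hw]
    exact (MvPowerSeries.isUnit_iff_constantCoeff.mpr (by rwa [mem_maximalIdeal, mem_nonunits_iff, not_not] at h)).map _
  have hu0 := hconst 0 u hu
  have hv0 := hconst 1 v hv
  obtain ⟨h, hh⟩ : ∃ h, h * (MvPowerSeries.X 0 * MvPowerSeries.X 1 - MvPowerSeries.C b) = u * v - MvPowerSeries.C (ι a) := by
    rw [← Ideal.mem_span_singleton', ← hJ, ← Ideal.Quotient.eq_zero_iff_mem, map_sub, map_mul, hu, hv, ← hcomm,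
      ← map_mul ψ, ← map_sub ψ, hker]
  -- the closed fibre is generated by `u` and `v` to first order
  have hgen : ∀ i : Fin 2, ∃ p q, MvPowerSeries.X i - (p * u + q * v) ∈ K := by
    intro i
    obtain ⟨w, hw⟩ := hψ (Ideal.Quotient.mk J (MvPowerSeries.X i))
    have hw0 : constantCoeff w ∈ maximalIdeal C := by
      by_contra hc
      have h1 : IsUnit (Ideal.Quotient.mk J (MvPowerSeries.X i)) := by
        rw [← hw]
        exact (MvPowerSeries.isUnit_iff_constantCoeff.mpr (by rwa [mem_maximalIdeal, mem_nonunits_iff, not_not] at hc)).map _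
      obtain ⟨z, hz⟩ := h1.exists_right_inv
      obtain ⟨z, rfl⟩ := Ideal.Quotient.mk_surjective z
      rw [← map_mul, ← map_one (Ideal.Quotient.mk J), Ideal.Quotient.eq] at hz
      have hK := ((Ideal.span_singleton_le_iff_mem K).mpr hbK (hJ ▸ hz)).1
      simp at hK
    have hmK : maximalIdeal C ≤ Ideal.comap (ψ.comp MvPowerSeries.C) (K.map (Ideal.Quotient.mk J)) := by
      refine hι.trans (Ideal.map_le_iff_le_comap.mpr fun r hr => ?_)
      rw [Ideal.mem_comap, Ideal.mem_comap, RingHom.comp_apply, hcomm]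
      refine Ideal.mem_map_of_mem _ ?_
      have hr0 : ρ (ι r) = 0 := (residue_eq_zero_iff _).mpr (hιm (Ideal.mem_map_of_mem ι hr))
      exact ⟨by simp [hr0], fun j => by rw [lin_C, map_zero]⟩
    obtain ⟨z, hzK, hz⟩ := (Ideal.mem_map_iff_of_surjective _ Ideal.Quotient.mk_surjective).mp (hmK hw0)
    obtain ⟨g₀, g₁, hg⟩ := exists_decomp w
    obtain ⟨G₀, hG₀⟩ := Ideal.Quotient.mk_surjective (ψ g₀)
    obtain ⟨G₁, hG₁⟩ := Ideal.Quotient.mk_surjective (ψ g₁)
    refine ⟨G₀, G₁, ?_⟩
    have hmem : MvPowerSeries.X i - (G₀ * u + G₁ * v) - z ∈ J := by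
      rw [← Ideal.Quotient.eq_zero_iff_mem]
      have := congrArg ψ hg
      simp only [map_add, map_mul, hw] at this
      simp only [map_sub, map_add, map_mul, hG₀, hG₁, hu, hv, hz, RingHom.comp_apply]
      linear_combination this
    have hK2 := K.add_mem ((Ideal.span_singleton_le_iff_mem K).mpr hbK (hJ ▸ hmem)) hzK
    rwa [sub_add_cancel] at hK2
  -- invertibility of the linear part
  set D : C := lin 0 u * lin 1 v - lin 1 u * lin 0 v with hD
  have hDu : IsUnit D := by
    obtain ⟨p, q, hpq⟩ := hgen 0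
    obtain ⟨p', q', hpq'⟩ := hgen 1
    have e00 := hpq.2 0
    have e10 := hpq.2 1
    have e01 := hpq'.2 0
    have e11 := hpq'.2 1
    have hu' : ρ (constantCoeff u) = 0 := (residue_eq_zero_iff _).mpr hu0
    have hv' : ρ (constantCoeff v) = 0 := (residue_eq_zero_iff _).mpr hv0
    simp only [map_sub, map_add, lin_mul, lin_X, map_mul, hu', hv', mul_zero, add_zero, if_true,
      show ((1 : Fin 2) = 0) = False by simp, show ((0 : Fin 2) = 1) = False by simp, if_false, map_zero, map_one] at e00 e10 e01 e11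
    have key : ρ D * (ρ (constantCoeff p) * ρ (constantCoeff q') - ρ (constantCoeff q) * ρ (constantCoeff p')) = 1 := by
      rw [hD, map_sub, map_mul, map_mul]
      linear_combination (-(ρ (constantCoeff p') * ρ (lin 1 u) + ρ (constantCoeff q') * ρ (lin 1 v))) * e00 +
        (-1 : ResidueField C) * e11 + (ρ (constantCoeff p') * ρ (lin 0 u) + ρ (constantCoeff q') * ρ (lin 0 v)) * e10
    exact (residue_ne_zero_iff_isUnit D).mp (left_ne_zero_of_mul_eq_one key)
  -- coefficients of degree at most one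
  have h0 := congrArg constantCoeff hh
  have hl := fun i => congrArg (lin i) hh
  simp only [map_sub, map_mul, constantCoeff_X, constantCoeff_C, mul_zero, zero_sub] at h0
  simp only [map_sub, lin_mul, lin_C, lin_X, map_mul, constantCoeff_X, constantCoeff_C, mul_zero, zero_mul,
    add_zero, sub_zero, zero_sub] at hl
  have hu1 : b ∣ constantCoeff u * D :=
    ⟨-(lin 1 h * lin 0 u) + lin 0 h * lin 1 u, by rw [hD]; linear_combination lin 1 u * hl 0 - lin 0 u * hl 1⟩
  have hv1 : b ∣ constantCoeff v * D :=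
    ⟨-(lin 0 h * lin 1 v) + lin 1 h * lin 0 v, by rw [hD]; linear_combination lin 0 v * hl 1 - lin 1 v * hl 0⟩
  rw [hDu.dvd_mul_right] at hu1 hv1
  obtain ⟨c, hc⟩ := hu1
  refine ⟨constantCoeff h + c * constantCoeff v, ?_⟩
  linear_combination h0 + constantCoeff v * hc

omit [IsLocalRing C] in
lemma mem_span_of_forall_pow [IsNoetherianRing R] {a b : R} (hb : b ∈ maximalIdeal R)
    (h : ∀ n, a ∈ Ideal.span {b} ⊔ maximalIdeal R ^ n) : a ∈ Ideal.span {b} := by
  have hne : Ideal.span {b} ≠ ⊤ := ne_top_of_le_ne_top (maximalIdeal.isMaximal R).ne_top ((Ideal.span_singleton_le_iff_mem _).mpr hb)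
  have : Nontrivial (R ⧸ Ideal.span {b}) := Ideal.Quotient.nontrivial_iff.mpr hne
  have : IsLocalRing (R ⧸ Ideal.span {b}) := IsLocalRing.of_surjective' (Ideal.Quotient.mk _) Ideal.Quotient.mk_surjective
  rw [← Ideal.Quotient.eq_zero_iff_mem, ← Ideal.mem_bot, ← Ideal.iInf_pow_eq_bot_of_isLocalRing (maximalIdeal (R ⧸ Ideal.span {b})) (maximalIdeal.isMaximal _).ne_top, Ideal.mem_iInf]
  intro n
  rw [← IsLocalRing.map_maximalIdeal_of_surjective _ Ideal.Quotient.mk_surjective, ← Ideal.map_pow]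
  have := Ideal.mem_map_of_mem (Ideal.Quotient.mk (Ideal.span {b})) (h n)
  rwa [Ideal.map_sup, Ideal.map_quotient_self, bot_sup_eq] at this

/-- Divisibility descends from the completion. -/
lemma mem_span_of_dvd_completion [IsNoetherianRing R] {a b : R} (hb : b ∈ maximalIdeal R)
    (h : algebraMap R (AdicCompletion (maximalIdeal R) R) b ∣ algebraMap R (AdicCompletion (maximalIdeal R) R) a) :
    a ∈ Ideal.span {b} := by
  refine mem_span_of_forall_pow hb fun n => ?_
  obtain ⟨c, hc⟩ := h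
  obtain ⟨r, hr⟩ := Ideal.Quotient.mk_surjective (AdicCompletion.evalₐ (maximalIdeal R) n c)
  have e := congrArg (AdicCompletion.evalₐ (maximalIdeal R) n) hc
  rw [map_mul, AlgHom.commutes, AlgHom.commutes, ← hr, Ideal.Quotient.algebraMap_eq, ← map_mul, Ideal.Quotient.eq] at e
  have : a = b * r + (a - b * r) := by ring
  rw [this]
  exact Submodule.add_mem_sup (Ideal.mul_mem_right _ _ (Ideal.mem_span_singleton_self b)) e

end Groth.Agent.H98Node
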