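import Groth.Prelude.Def_DualGr
import Groth.Agent.H98Node.Thickness
import Mathlib

set_option autoImplicit false
set_option maxHeartbeats 400000
set_option backward.isDefEq.respectTransparency.types false
universe u

open IsLocalRing MvPowerSeries

/-!
# A thick node cannot be smooth over a prime containing its thickness

Over `p ∋ a` the two branches give two tangent directions at the section `x = y = 0`; by formal smoothness
they extend to second order with bounded denominators, and `xy = a` then forces `1` into every power of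
the maximal ideal.
-/

namespace Groth.Agent.H98Node.Thick729

variable {C D K : Type u} [CommRing C] [CommRing D] [CommRing K] [Algebra D K]

/-- The first order jet along `x = y = 0`. -/
noncomputable def jet (ρ : C →+* K) : MvPowerSeries (Fin 2) C →+* TrivSqZeroExt K (K × K) where
  toFun g := TrivSqZeroExt.inl (ρ (constantCoeff g)) + TrivSqZeroExt.inr (ρ (lin 0 g), ρ (lin 1 g))
  map_one' := by
    have h : ∀ i : Fin 2, lin i (1 : MvPowerSeries (Fin 2) C) = 0 := fun i => by
      rw [← map_one MvPowerSeries.C, lin_C]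
    apply TrivSqZeroExt.ext <;> simp [h]
  map_mul' f g := by
    apply TrivSqZeroExt.ext <;> simp [lin_mul] <;> constructor <;> ring
  map_zero' := by apply TrivSqZeroExt.ext <;> simp
  map_add' f g := by apply TrivSqZeroExt.ext <;> simp

@[simp] lemma jet_fst (ρ : C →+* K) (g : MvPowerSeries (Fin 2) C) : (jet ρ g).fst = ρ (constantCoeff g) := by
  simp [jet]

@[simp] lemma jet_snd (ρ : C →+* K) (g : MvPowerSeries (Fin 2) C) : (jet ρ g).snd = (ρ (lin 0 g), ρ (lin 1 g)) := by
  simp [jet]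

lemma jet_C (ρ : C →+* K) (c : C) : jet ρ (MvPowerSeries.C c) = TrivSqZeroExt.inl (ρ c) := by
  apply TrivSqZeroExt.ext <;> simp [lin_C]

lemma jet_filtration [IsLocalRing C] [IsLocalRing D] (ρ : C →+* D) (hρ : maximalIdeal C ≤ (maximalIdeal D).comap ρ)
    (n : ℕ) {g : MvPowerSeries (Fin 2) C} (hg : g ∈ maximalIdeal (MvPowerSeries (Fin 2) C) ^ n) :
    ρ (constantCoeff g) ∈ maximalIdeal D ^ n ∧ ∀ i, ρ (lin i g) ∈ maximalIdeal D ^ (n - 1) := by
  induction n generalizing g with
  | zero => simp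
  | succ n ih =>
    rw [pow_succ] at hg
    refine Submodule.mul_induction_on hg (fun x hx y hy => ?_) (fun x y hx hy => ?_)
    · obtain ⟨h1, h2⟩ := ih hx
      have hy' : ρ (constantCoeff y) ∈ maximalIdeal D := by
        apply hρ
        rw [mem_maximalIdeal, mem_nonunits_iff] at hy ⊢
        exact fun h => hy (MvPowerSeries.isUnit_iff_constantCoeff.mpr h)
      refine ⟨?_, fun i => ?_⟩
      · rw [map_mul, map_mul, pow_succ]
        exact Ideal.mul_mem_mul h1 hy'
      · rw [lin_mul, map_add, map_mul, map_mul, Nat.add_sub_cancel]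
        refine Ideal.add_mem _ (Ideal.mul_mem_right _ _ h1) ?_
        rcases n with _ | n
        · simp
        · rw [pow_succ]
          exact Ideal.mul_mem_mul (h2 i) hy'
    · exact ⟨by rw [map_add, map_add]; exact Ideal.add_mem _ hx.1 hy.1, fun i => by
        rw [map_add, map_add]; exact Ideal.add_mem _ (hx.2 i) (hy.2 i)⟩

lemma mul_mem_coe (M : Ideal D) {a b k : ℕ} {x y : K} (hx : x ∈ IsLocalization.coeSubmodule K (M ^ a))
    (hy : y ∈ IsLocalization.coeSubmodule K (M ^ b)) (h : k ≤ a + b) :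
    x * y ∈ IsLocalization.coeSubmodule K (M ^ k) := by
  refine IsLocalization.coeSubmodule_mono _ (Ideal.pow_le_pow_right h) ?_
  rw [pow_add, IsLocalization.coeSubmodule_mul]
  exact Submodule.mul_mem_mul hx hy

omit [Algebra D K] in
/-- Second order jets project onto first order jets. -/
noncomputable def proj : DualNumber (DualNumber K) →+* TrivSqZeroExt K (K × K) where
  toFun u := TrivSqZeroExt.inl u.fst.fst + TrivSqZeroExt.inr (u.fst.snd, u.snd.fst)
  map_one' := by apply TrivSqZeroExt.ext <;> simp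
  map_mul' u v := by
    apply TrivSqZeroExt.ext <;> simp <;> constructor <;> ring
  map_zero' := by apply TrivSqZeroExt.ext <;> simp
  map_add' u v := by apply TrivSqZeroExt.ext <;> simp

lemma proj_surjective : Function.Surjective (proj (K := K)) := by
  intro y
  refine ⟨TrivSqZeroExt.inl (TrivSqZeroExt.inl y.fst + TrivSqZeroExt.inr y.snd.1) +
    TrivSqZeroExt.inr (TrivSqZeroExt.inl y.snd.2), ?_⟩
  apply TrivSqZeroExt.ext <;> simp [proj]

lemma ker_proj_nilpotent : IsNilpotent (RingHom.ker (proj (K := K))) := by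
  refine ⟨2, ?_⟩
  rw [Submodule.pow_succ, Submodule.pow_one, Ideal.zero_eq_bot, eq_bot_iff, Ideal.mul_le]
  intro u hu v hv
  rw [RingHom.mem_ker] at hu hv
  have hu1 := congrArg TrivSqZeroExt.fst hu
  have hu2 := congrArg TrivSqZeroExt.snd hu
  have hv1 := congrArg TrivSqZeroExt.fst hv
  have hv2 := congrArg TrivSqZeroExt.snd hv
  simp [proj, Prod.ext_iff] at hu1 hu2 hv1 hv2
  rw [Ideal.mem_bot]
  apply TrivSqZeroExt.ext <;> apply TrivSqZeroExt.ext <;> simp [hu1, hu2, hv1, hv2]

lemma exists_lift_of_surjective {R A B B' : Type u} [CommRing R] [CommRing A] [CommRing B] [CommRing B']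
    [Algebra R A] [Algebra R B] [Algebra R B'] [Algebra.FormallySmooth R A] (f : A →ₐ[R] B')
    (π : B →ₐ[R] B') (hs : Function.Surjective π) (hn : IsNilpotent (RingHom.ker π.toRingHom)) :
    ∃ g : A →ₐ[R] B, ∀ z, π (g z) = f z :=
  ⟨Algebra.FormallySmooth.liftOfSurjective f π hs hn,
    fun z => Algebra.FormallySmooth.liftOfSurjective_apply f π hs hn z⟩

/-- The `xy` coefficient of a product. -/
lemma snd_snd_mul (u v : DualNumber (DualNumber K)) :
    (u * v).snd.snd = u.fst.fst * v.snd.snd + u.snd.snd * v.fst.fst +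
      u.fst.snd * v.snd.fst + u.snd.fst * v.fst.snd := by
  simp
  ring

section Lift

variable {R A S : Type u} [CommRing R] [CommRing A] [CommRing S] [Algebra R S] [Algebra S A] [Algebra R A]
  [IsScalarTower R S A] (P : Ideal S) [P.IsPrime] [IsLocalization.AtPrime A P]

include P in
/-- First order jets extend to second order at smooth points. -/
theorem exists_second_jet {K : Type u} [Field K] [Algebra R K] (Ψ : A →+* TrivSqZeroExt K (K × K))
    (hΨR : ∀ r : R, Ψ (algebraMap R A r) = TrivSqZeroExt.inl (algebraMap R K r))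
    (hsm : ∀ q : Ideal S, q.IsPrime → q.comap (algebraMap R S) = RingHom.ker (algebraMap R K) →
      ∃ g ∉ q, Algebra.Smooth R (Localization.Away g)) :
    ∃ φ : A →+* DualNumber (DualNumber K), (∀ x, proj (φ x) = Ψ x) ∧
      ∀ r : R, (φ (algebraMap R A r)).snd.snd = 0 := by
  let ΨS : S →ₐ[R] TrivSqZeroExt K (K × K) :=
    { Ψ.comp (algebraMap S A) with
      commutes' := fun r => by
        simp [← IsScalarTower.algebraMap_apply, hΨR]
        rfl }
  have hΨS : ∀ z, ΨS z = Ψ (algebraMap S A z) := fun z => rfl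
  let χ : S →+* K := (TrivSqZeroExt.fstHom K K (K × K)).toRingHom.comp ΨS.toRingHom
  have hq : (RingHom.ker χ).comap (algebraMap R S) = RingHom.ker (algebraMap R K) := by
    ext r
    rw [Ideal.mem_comap, RingHom.mem_ker, RingHom.mem_ker]
    have : χ (algebraMap R S r) = algebraMap R K r := by
      change (ΨS (algebraMap R S r)).fst = _
      rw [ΨS.commutes]
      rfl
    rw [this]
  obtain ⟨g, hg, hgsm⟩ := hsm _ (RingHom.ker_isPrime χ) hq
  have hgu : IsUnit (ΨS g) := by
    rw [TrivSqZeroExt.isUnit_iff_isUnit_fst, isUnit_iff_ne_zero]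
    exact fun h => hg h
  let Ψg : Localization.Away g →ₐ[R] TrivSqZeroExt K (K × K) :=
    { IsLocalization.Away.lift g (g := ΨS.toRingHom) hgu with
      commutes' := fun r => by
        simp only [IsScalarTower.algebraMap_apply R S (Localization.Away g)]
        exact (IsLocalization.Away.lift_eq g hgu _).trans (ΨS.commutes r) }
  let π : DualNumber (DualNumber K) →ₐ[R] TrivSqZeroExt K (K × K) :=
    { proj (K := K) with
      commutes' := fun r => by
        apply TrivSqZeroExt.ext <;> simp [proj, TrivSqZeroExt.algebraMap_eq_inl'] }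
  haveI : Algebra.FormallySmooth R (Localization.Away g) := hgsm.formallySmooth
  have hπs : Function.Surjective π := proj_surjective
  have hπn : IsNilpotent (RingHom.ker π.toRingHom) := ker_proj_nilpotent
  obtain ⟨φg, hφg⟩ := exists_lift_of_surjective (B := DualNumber (DualNumber K))
    (B' := TrivSqZeroExt K (K × K)) Ψg π hπs hπn
  let φS : S →ₐ[R] DualNumber (DualNumber K) := φg.comp (IsScalarTower.toAlgHom R S (Localization.Away g))
  have hπS : ∀ z, proj (φS z) = ΨS z := by
    intro z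
    refine (hφg _).trans ?_
    exact IsLocalization.Away.lift_eq g hgu z
  have hφu : ∀ y : P.primeCompl, IsUnit (φS y) := by
    intro y
    have h := ((IsLocalization.map_units A y).map Ψ).map (TrivSqZeroExt.fstHom K K (K × K))
    rw [TrivSqZeroExt.isUnit_iff_isUnit_fst, TrivSqZeroExt.isUnit_iff_isUnit_fst]
    have h2 := congrArg TrivSqZeroExt.fst (hπS y)
    simp [proj] at h2
    rw [h2]
    exact h
  let φ : A →+* DualNumber (DualNumber K) :=
    @IsLocalization.lift S _ P.primeCompl A _ _ (DualNumber (DualNumber K)) _ _ φS.toRingHom hφu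
  have hφS : ∀ z, φ (algebraMap S A z) = φS z := fun z => IsLocalization.lift_eq _ _
  refine ⟨φ, fun x => ?_, fun r => ?_⟩
  · have : proj.comp φ = Ψ := IsLocalization.ringHom_ext P.primeCompl
      (RingHom.ext fun z => by simp [hφS, hπS, hΨS])
    exact RingHom.congr_fun this x
  · rw [IsScalarTower.algebraMap_apply R S A, hφS, AlgHom.commutes]
    simp [TrivSqZeroExt.algebraMap_eq_inl']

variable {D K : Type u} [CommRing D] [IsDomain D] [Field K] [Algebra D K] [IsFractionRing D K]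

omit [IsDomain D] [IsFractionRing D K] in
/-- The product rule for the `xy` coefficient. -/
lemma snd_snd_map_mul {Ψ : A →+* TrivSqZeroExt K (K × K)} {φ : A →+* DualNumber (DualNumber K)}
    (hπ : ∀ x, proj (φ x) = Ψ x) (c : K) (x y : A) :
    c * (φ (x * y)).snd.snd = (Ψ x).fst * (c * (φ y).snd.snd) + c * (φ x).snd.snd * (Ψ y).fst +
      c * ((Ψ x).snd.1 * (Ψ y).snd.2) + c * ((Ψ x).snd.2 * (Ψ y).snd.1) := by
  rw [map_mul, snd_snd_mul, ← hπ x, ← hπ y]
  simp [proj]
  ring

include P in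
/-- Second order jets of finite type algebras have bounded denominators. -/
theorem exists_bound [Algebra.FiniteType R S] {Ψ : A →+* TrivSqZeroExt K (K × K)}
    {φ : A →+* DualNumber (DualNumber K)}
    (hπ : ∀ x, proj (φ x) = Ψ x) (hφR : ∀ r : R, (φ (algebraMap R A r)).snd.snd = 0) (M : Ideal D)
    (hint : ∀ x, (Ψ x).fst ∈ IsLocalization.coeSubmodule K (M ^ 0) ∧
      (Ψ x).snd.1 ∈ IsLocalization.coeSubmodule K (M ^ 0) ∧ (Ψ x).snd.2 ∈ IsLocalization.coeSubmodule K (M ^ 0)) :
    ∃ s : D, s ≠ 0 ∧ ∀ x, algebraMap D K s * (φ x).snd.snd ∈ IsLocalization.coeSubmodule K (M ^ 0) := by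
  classical
  obtain ⟨T, hT⟩ := Algebra.FiniteType.out (R := R) (A := S)
  obtain ⟨s, hs⟩ := IsLocalization.exist_integer_multiples_of_finset (nonZeroDivisors D)
    (T.image fun z => (φ (algebraMap S A z)).snd.snd)
  refine ⟨s, nonZeroDivisors.coe_ne_zero s, ?_⟩
  let c : K := algebraMap D K (s : D)
  have hc : c ∈ IsLocalization.coeSubmodule K (M ^ 0) := ⟨s, by simp, rfl⟩
  have hmul : ∀ x y, c * (φ x).snd.snd ∈ IsLocalization.coeSubmodule K (M ^ 0) →
      c * (φ y).snd.snd ∈ IsLocalization.coeSubmodule K (M ^ 0) →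
      c * (φ (x * y)).snd.snd ∈ IsLocalization.coeSubmodule K (M ^ 0) := by
    intro x y hx hy
    obtain ⟨x0, x1, x2⟩ := hint x
    obtain ⟨y0, y1, y2⟩ := hint y
    rw [snd_snd_map_mul hπ]
    exact add_mem (add_mem (add_mem (mul_mem_coe _ x0 hy le_rfl) (mul_mem_coe _ hx y0 le_rfl))
      (mul_mem_coe _ hc (mul_mem_coe _ x1 y2 le_rfl) le_rfl))
      (mul_mem_coe _ hc (mul_mem_coe _ x2 y1 le_rfl) le_rfl)
  have hS : ∀ z : S, c * (φ (algebraMap S A z)).snd.snd ∈ IsLocalization.coeSubmodule K (M ^ 0) := by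
    intro z
    have hz : z ∈ Algebra.adjoin R (T : Set S) := hT ▸ Algebra.mem_top
    induction hz using Algebra.adjoin_induction with
    | mem x hx =>
      obtain ⟨d, hd⟩ := hs _ (Finset.mem_image_of_mem _ hx)
      refine ⟨d, by simp, ?_⟩
      change algebraMap D K d = _
      rw [hd, Algebra.smul_def]
    | algebraMap r =>
      rw [← IsScalarTower.algebraMap_apply R S A, hφR]
      simp
    | add x y _ _ hx hy =>
      simp only [map_add, TrivSqZeroExt.snd_add, mul_add]
      exact add_mem hx hy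
    | mul x y _ _ hx hy =>
      rw [map_mul]
      exact hmul _ _ hx hy
  intro x
  obtain ⟨⟨z, w⟩, hzw⟩ := IsLocalization.surj P.primeCompl x
  obtain ⟨v, hv⟩ := (IsLocalization.map_units A w).exists_right_inv
  have e1 := snd_snd_map_mul hπ c x (algebraMap S A w)
  rw [hzw] at e1
  have e2 : (Ψ (algebraMap S A w)).fst * (Ψ v).fst = 1 := by
    rw [← TrivSqZeroExt.fst_mul, ← map_mul, hv, map_one, TrivSqZeroExt.fst_one]
  set W := algebraMap S A (w : S)
  have key : c * (φ x).snd.snd = (Ψ v).fst * (c * (φ (algebraMap S A z)).snd.snd +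
      -((Ψ x).fst * (c * (φ W).snd.snd)) +
      -(c * ((Ψ x).snd.1 * (Ψ W).snd.2)) + -(c * ((Ψ x).snd.2 * (Ψ W).snd.1))) := by
    linear_combination (-(Ψ v).fst) * e1 + (-(c * (φ x).snd.snd)) * e2
  obtain ⟨x0, x1, x2⟩ := hint x
  obtain ⟨w0, w1, w2⟩ := hint W
  rw [key]
  refine mul_mem_coe _ (b := 0) (hint v).1 ?_ le_rfl
  refine add_mem (add_mem (add_mem (hS z) (neg_mem ?_)) (neg_mem ?_)) (neg_mem ?_)
  · exact mul_mem_coe _ x0 (hS w) le_rfl
  · exact mul_mem_coe _ hc (mul_mem_coe _ x1 w2 le_rfl) le_rfl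
  · exact mul_mem_coe _ hc (mul_mem_coe _ x2 w1 le_rfl) le_rfl

end Lift

section Estimate

variable {A D K : Type u} [CommRing A] [IsLocalRing A] [CommRing D] [IsDomain D] [IsLocalRing D]
  [IsNoetherianRing D] [Field K] [Algebra D K] [IsFractionRing D K]

/-- The filtration estimate. -/
theorem false_of_approx {Ψ : A →+* TrivSqZeroExt K (K × K)} {φ : A →+* DualNumber (DualNumber K)}
    (hπ : ∀ x, proj (φ x) = Ψ x) {s : D} (hs0 : s ≠ 0)
    (hI : ∀ x, algebraMap D K s * (φ x).snd.snd ∈ IsLocalization.coeSubmodule K (maximalIdeal D ^ 0))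
    (hfilt : ∀ (n : ℕ), ∀ x ∈ maximalIdeal A ^ n,
      (Ψ x).fst ∈ IsLocalization.coeSubmodule K (maximalIdeal D ^ n) ∧
      (Ψ x).snd.1 ∈ IsLocalization.coeSubmodule K (maximalIdeal D ^ (n - 1)) ∧
      (Ψ x).snd.2 ∈ IsLocalization.coeSubmodule K (maximalIdeal D ^ (n - 1)))
    (a' : A) (ha' : (φ a').snd.snd = 0)
    (happ : ∀ n : ℕ, ∃ ξ η : A, ξ * η - a' ∈ maximalIdeal A ^ (n + 2) ∧
      (Ψ ξ).fst ∈ IsLocalization.coeSubmodule K (maximalIdeal D ^ n) ∧
      (Ψ η).fst ∈ IsLocalization.coeSubmodule K (maximalIdeal D ^ n) ∧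
      (Ψ ξ).snd.1 - 1 ∈ IsLocalization.coeSubmodule K (maximalIdeal D ^ n) ∧
      (Ψ ξ).snd.2 ∈ IsLocalization.coeSubmodule K (maximalIdeal D ^ n) ∧
      (Ψ η).snd.2 - 1 ∈ IsLocalization.coeSubmodule K (maximalIdeal D ^ n)) : False := by
  let c : K := algebraMap D K s
  have hc : c ∈ IsLocalization.coeSubmodule K (maximalIdeal D ^ 0) := ⟨s, by simp, rfl⟩
  have hIpow : ∀ (n : ℕ), ∀ x ∈ maximalIdeal A ^ n,
      c * (φ x).snd.snd ∈ IsLocalization.coeSubmodule K (maximalIdeal D ^ (n - 2)) := by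
    intro n
    induction n with
    | zero => exact fun x _ => hI x
    | succ n ih =>
      intro x hx
      rw [pow_succ] at hx
      refine Submodule.mul_induction_on hx (fun u hu v hv => ?_) (fun u v hu hv => ?_)
      · obtain ⟨u0, u1, u2⟩ := hfilt n u hu
        obtain ⟨v0, v1, v2⟩ := hfilt 1 v (by rwa [pow_one])
        rw [snd_snd_map_mul hπ]
        exact add_mem (add_mem (add_mem (mul_mem_coe _ u0 (hI v) (by omega))
          (mul_mem_coe _ (ih u hu) v0 (by omega)))
          (mul_mem_coe _ hc (mul_mem_coe _ u1 v2 (k := n - 1) (by omega)) (by omega)))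
          (mul_mem_coe _ hc (mul_mem_coe _ u2 v1 (k := n - 1) (by omega)) (by omega))
      · simp only [map_add, TrivSqZeroExt.snd_add, mul_add]
        exact add_mem hu hv
  apply hs0
  rw [← Ideal.mem_bot, ← Ideal.iInf_pow_eq_bot_of_isLocalRing (maximalIdeal D) (maximalIdeal.isMaximal D).ne_top,
    Ideal.mem_iInf]
  intro n
  obtain ⟨ξ, η, hprod, hξ0, hη0, hξ1, hξ2, hη2⟩ := happ n
  have hη1 : (Ψ η).snd.1 ∈ IsLocalization.coeSubmodule K (maximalIdeal D ^ 0) :=
    (hfilt 0 η (by simp)).2.1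
  have hη2' : (Ψ η).snd.2 ∈ IsLocalization.coeSubmodule K (maximalIdeal D ^ 0) :=
    (hfilt 0 η (by simp)).2.2
  have hzero : c * (φ (ξ * η)).snd.snd ∈ IsLocalization.coeSubmodule K (maximalIdeal D ^ n) := by
    have := hIpow _ _ hprod
    rwa [map_sub, TrivSqZeroExt.snd_sub, TrivSqZeroExt.snd_sub, ha', sub_zero] at this
  have key : c = c * (φ (ξ * η)).snd.snd + -((Ψ ξ).fst * (c * (φ η).snd.snd)) +
      -(c * (φ ξ).snd.snd * (Ψ η).fst) + -(c * (((Ψ ξ).snd.1 - 1) * (Ψ η).snd.2)) +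
      -(c * ((Ψ η).snd.2 - 1)) + -(c * ((Ψ ξ).snd.2 * (Ψ η).snd.1)) := by
    rw [snd_snd_map_mul hπ]
    ring
  have hsL : c ∈ IsLocalization.coeSubmodule K (maximalIdeal D ^ n) := by
    rw [key]
    exact add_mem (add_mem (add_mem (add_mem (add_mem hzero
      (neg_mem (mul_mem_coe _ hξ0 (hI η) le_rfl)))
      (neg_mem (mul_mem_coe _ (hI ξ) hη0 (by omega))))
      (neg_mem (mul_mem_coe _ hc (mul_mem_coe _ hξ1 hη2' le_rfl) (by omega))))
      (neg_mem (mul_mem_coe _ hc hη2 (by omega))))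
      (neg_mem (mul_mem_coe _ hc (mul_mem_coe _ hξ2 hη1 le_rfl) (by omega)))
  obtain ⟨d, hd, hde⟩ := hsL
  exact IsFractionRing.injective D K hde ▸ hd

end Estimate

section Node

variable {R A : Type u} [CommRing R] [IsNoetherianRing R] [IsLocalRing R]
  [CommRing A] [IsLocalRing A] [IsNoetherianRing A] [Algebra R A]
  {D K : Type u} [CommRing D] [IsLocalRing D] [Field K] [Algebra D K]

/-- The jet of a thick node along `x = y = 0`, with its estimates. -/
theorem exists_jet (a : R) (e : Curv2.cpl A ≃+* DualGr.nodeRing R a)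
    (he : ∀ r : R, e (algebraMap A (Curv2.cpl A) (algebraMap R A r)) =
      Ideal.Quotient.mk _ (MvPowerSeries.C (algebraMap R (Curv2.cpl R) r)))
    (ρ : Curv2.cpl R →+* D) (hρm : maximalIdeal (Curv2.cpl R) ≤ (maximalIdeal D).comap ρ)
    (ha : ρ (algebraMap R (Curv2.cpl R) a) = 0) :
    ∃ Ψ : A →+* TrivSqZeroExt K (K × K),
      (∀ r : R, Ψ (algebraMap R A r) = TrivSqZeroExt.inl (algebraMap D K (ρ (algebraMap R (Curv2.cpl R) r)))) ∧
      (∀ (n : ℕ), ∀ x ∈ maximalIdeal A ^ n,
        (Ψ x).fst ∈ IsLocalization.coeSubmodule K (maximalIdeal D ^ n) ∧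
        (Ψ x).snd.1 ∈ IsLocalization.coeSubmodule K (maximalIdeal D ^ (n - 1)) ∧
        (Ψ x).snd.2 ∈ IsLocalization.coeSubmodule K (maximalIdeal D ^ (n - 1))) ∧
      ∀ n : ℕ, ∃ ξ η : A, ξ * η - algebraMap R A a ∈ maximalIdeal A ^ (n + 2) ∧
        (Ψ ξ).fst ∈ IsLocalization.coeSubmodule K (maximalIdeal D ^ n) ∧
        (Ψ η).fst ∈ IsLocalization.coeSubmodule K (maximalIdeal D ^ n) ∧
        (Ψ ξ).snd.1 - 1 ∈ IsLocalization.coeSubmodule K (maximalIdeal D ^ n) ∧
        (Ψ ξ).snd.2 ∈ IsLocalization.coeSubmodule K (maximalIdeal D ^ n) ∧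
        (Ψ η).snd.2 - 1 ∈ IsLocalization.coeSubmodule K (maximalIdeal D ^ n) := by
  classical
  let jq : DualGr.nodeRing R a →+* TrivSqZeroExt K (K × K) :=
    Ideal.Quotient.lift _ (jet ((algebraMap D K).comp ρ)) (by
      intro z hz
      obtain ⟨t, rfl⟩ := Ideal.mem_span_singleton'.mp hz
      have : jet ((algebraMap D K).comp ρ) (MvPowerSeries.X 0 * MvPowerSeries.X 1 -
          MvPowerSeries.C (algebraMap R (Curv2.cpl R) a)) = 0 := by
        apply TrivSqZeroExt.ext <;> simp [lin_mul, lin_C, ha]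
      rw [map_mul, this, mul_zero])
  have hjq : ∀ g, jq (Ideal.Quotient.mk _ g) = jet ((algebraMap D K).comp ρ) g :=
    fun g => Ideal.Quotient.lift_mk _ _ _
  let Ψ : A →+* TrivSqZeroExt K (K × K) := jq.comp (e.toRingHom.comp (algebraMap A (Curv2.cpl A)))
  have hΨ : ∀ x, Ψ x = jq (e (algebraMap A (Curv2.cpl A) x)) := fun x => rfl
  haveI : IsLocalRing (DualGr.nodeRing R a) := RingEquiv.isLocalRing e
  have hjet : ∀ (n : ℕ) (z : Curv2.cpl A), z ∈ maximalIdeal (Curv2.cpl A) ^ n →
      (jq (e z)).fst ∈ IsLocalization.coeSubmodule K (maximalIdeal D ^ n) ∧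
      (jq (e z)).snd.1 ∈ IsLocalization.coeSubmodule K (maximalIdeal D ^ (n - 1)) ∧
      (jq (e z)).snd.2 ∈ IsLocalization.coeSubmodule K (maximalIdeal D ^ (n - 1)) := by
    intro n z hz
    have h1 : e z ∈ (maximalIdeal (Curv2.cpl A) ^ n).map e.toRingHom := Ideal.mem_map_of_mem e.toRingHom hz
    rw [Ideal.map_pow, IsLocalRing.map_maximalIdeal_of_surjective e.toRingHom e.surjective,
      ← IsLocalRing.map_maximalIdeal_of_surjective (Ideal.Quotient.mk _) Ideal.Quotient.mk_surjective,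
      ← Ideal.map_pow] at h1
    obtain ⟨g, hg, hge⟩ := (Ideal.mem_map_iff_of_surjective _ Ideal.Quotient.mk_surjective).mp h1
    obtain ⟨j1, j2⟩ := jet_filtration ρ hρm n hg
    rw [← hge, hjq, jet_fst, jet_snd]
    exact ⟨⟨_, j1, rfl⟩, ⟨_, j2 0, rfl⟩, ⟨_, j2 1, rfl⟩⟩
  refine ⟨Ψ, fun r => ?_, fun n x hx => ?_, fun n => ?_⟩
  · rw [hΨ, he, hjq, jet_C, RingHom.comp_apply]
  · rw [hΨ]
    apply hjet
    rw [AdicCompletion.maximalIdeal_eq_map, ← Ideal.map_pow]
    exact Ideal.mem_map_of_mem _ hx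
  · have approx : ∀ i : Fin 2, ∃ ξ : A, AdicCompletion.evalₐ (maximalIdeal A) (n + 2)
        (e.symm (Ideal.Quotient.mk _ (MvPowerSeries.X i))) = Ideal.Quotient.mk _ ξ :=
      fun i => (Ideal.Quotient.mk_surjective _).imp fun _ h => h.symm
    choose ξ hξ using approx
    have hev : ∀ x : A, AdicCompletion.evalₐ (maximalIdeal A) (n + 2) (algebraMap A _ x) =
        Ideal.Quotient.mk _ x := fun x => by rw [AlgHom.commutes]; rfl
    have hdiff : ∀ i, algebraMap A (Curv2.cpl A) (ξ i) - e.symm (Ideal.Quotient.mk _ (MvPowerSeries.X i))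
        ∈ maximalIdeal (Curv2.cpl A) ^ (n + 2) := by
      intro i
      rw [AdicCompletion.maximalIdeal_eq_map, ← Ideal.map_pow, ← Submodule.restrictScalars_mem A,
        ← Ideal.smul_top_eq_map, AdicCompletion.pow_smul_top_eq_ker_eval
          (maximalIdeal A).fg_of_isNoetherianRing, LinearMap.mem_ker]
      rw [map_sub, ← AdicCompletion.factor_evalₐ_eq_eval _ _ (le_of_eq (Ideal.mul_top _).symm),
        ← AdicCompletion.factor_evalₐ_eq_eval _ _ (le_of_eq (Ideal.mul_top _).symm), hev, ← hξ, sub_self]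
    have hd : ∀ i, (Ψ (ξ i)).fst ∈ IsLocalization.coeSubmodule K (maximalIdeal D ^ n) ∧
        (Ψ (ξ i)).snd.1 - (if i = 0 then 1 else 0) ∈ IsLocalization.coeSubmodule K (maximalIdeal D ^ n) ∧
        (Ψ (ξ i)).snd.2 - (if i = 1 then 1 else 0) ∈ IsLocalization.coeSubmodule K (maximalIdeal D ^ n) := by
      intro i
      obtain ⟨d0, d1, d2⟩ := hjet _ _ (hdiff i)
      rw [map_sub, map_sub, e.apply_symm_apply, hjq, ← hΨ] at d0 d1 d2
      have mono : ∀ {m : ℕ}, n ≤ m → IsLocalization.coeSubmodule K (maximalIdeal D ^ m) ≤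
          IsLocalization.coeSubmodule K (maximalIdeal D ^ n) := fun h =>
        IsLocalization.coeSubmodule_mono _ (Ideal.pow_le_pow_right h)
      refine ⟨mono (m := n + 2) (by omega) ?_, mono (by omega : n ≤ n + 2 - 1) ?_, mono (by omega : n ≤ n + 2 - 1) ?_⟩
      · simpa using d0
      · simpa [lin_X, eq_comm, apply_ite (algebraMap D K), apply_ite ρ] using d1
      · simpa [lin_X, eq_comm, apply_ite (algebraMap D K), apply_ite ρ] using d2
    refine ⟨ξ 0, ξ 1, ?_, (hd 0).1, (hd 1).1, by simpa using (hd 0).2.1, by simpa using (hd 0).2.2,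
      by simpa using (hd 1).2.2⟩
    rw [← Ideal.Quotient.eq, map_mul, ← hξ 0, ← hξ 1, ← map_mul, ← hev]
    congr 1
    apply e.injective
    rw [map_mul, e.apply_symm_apply, e.apply_symm_apply, he, ← map_mul, Ideal.Quotient.eq]
    exact Ideal.mem_span_singleton_self _

end Node

section Core

variable (R A S : Type u) [CommRing R] [IsNoetherianRing R] [IsLocalRing R]
  [IsAdicComplete (maximalIdeal R) R] [CommRing A] [IsLocalRing A] [IsNoetherianRing A]
  [CommRing S] [Algebra R S] [Algebra S A] [Algebra R A] [IsScalarTower R S A]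

theorem core (a : R) (p : Ideal R) [p.IsPrime] (ha : a ∈ p)
    (e : Curv2.cpl A ≃+* DualGr.nodeRing R a)
    (he : ∀ r : R, e (algebraMap A (Curv2.cpl A) (algebraMap R A r)) =
      Ideal.Quotient.mk _ (MvPowerSeries.C (algebraMap R (Curv2.cpl R) r)))
    (P : Ideal S) [P.IsPrime] [IsLocalization.AtPrime A P] [Algebra.FiniteType R S]
    (hsm : ∀ q : Ideal S, q.IsPrime → q.comap (algebraMap R S) = p →
      ∃ g ∉ q, Algebra.Smooth R (Localization.Away g)) : False := by
  haveI : IsLocalRing (R ⧸ p) :=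
    IsLocalRing.of_surjective' (Ideal.Quotient.mk p) Ideal.Quotient.mk_surjective
  let σ : Curv2.cpl R →+* R := (AdicCompletion.ofAlgEquiv (maximalIdeal R) (S := R)).symm.toRingEquiv.toRingHom
  have hσ : ∀ r, σ (algebraMap R (Curv2.cpl R) r) = r :=
    fun r => (AdicCompletion.ofAlgEquiv (maximalIdeal R) (S := R)).symm.commutes r
  let ρ : Curv2.cpl R →+* R ⧸ p := (Ideal.Quotient.mk p).comp σ
  have hs : Function.Surjective ρ := by
    intro d
    obtain ⟨r, rfl⟩ := Ideal.Quotient.mk_surjective d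
    exact ⟨algebraMap R (Curv2.cpl R) r, by simp [ρ, hσ]⟩
  have hρm : maximalIdeal (Curv2.cpl R) ≤ (maximalIdeal (R ⧸ p)).comap ρ := by
    rw [← IsLocalRing.map_maximalIdeal_of_surjective ρ hs]
    exact Ideal.le_comap_map
  obtain ⟨Ψ, hΨR, hfilt, happ⟩ := exists_jet (K := FractionRing (R ⧸ p)) a e he ρ hρm
    (by simp [ρ, hσ, Ideal.Quotient.eq_zero_iff_mem, ha])
  have hker : RingHom.ker (algebraMap R (FractionRing (R ⧸ p))) = p := by
    ext r
    rw [RingHom.mem_ker, IsScalarTower.algebraMap_apply R (R ⧸ p) (FractionRing (R ⧸ p)),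
      map_eq_zero_iff _ (IsFractionRing.injective (R ⧸ p) _), Ideal.Quotient.algebraMap_eq,
      Ideal.Quotient.eq_zero_iff_mem]
  obtain ⟨φ, hπ, hφR⟩ := exists_second_jet (R := R) P Ψ (fun r => by
      rw [hΨR, IsScalarTower.algebraMap_apply R (R ⧸ p) (FractionRing (R ⧸ p))]
      simp [ρ, hσ]) (by rw [hker]; exact hsm)
  obtain ⟨s, hs0, hI⟩ := exists_bound (R := R) P hπ hφR (maximalIdeal (R ⧸ p))
    (fun x => hfilt 0 x (by simp))
  exact false_of_approx hπ hs0 hI hfilt _ (hφR a) happ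

end Core

end Groth.Agent.H98Node.Thick729
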